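/-
Successive approximation in `k[[t]]` from the set of orders of a subspace.
-/
import Mathlib

set_option autoImplicit false
open scoped PowerSeries
open PowerSeries

namespace Groth.Agent.ValueApprox

universe u
variable {k : Type u} [Field k]

theorem le_order_iff_dvd (n : ℕ) (f : k⟦X⟧) : (n : ℕ∞) ≤ f.order ↔ (X : k⟦X⟧) ^ n ∣ f := by
  rw [X_pow_dvd_iff]
  exact ⟨fun h d hd => coeff_of_lt_order d (lt_of_lt_of_le (by exact_mod_cast hd) h),
    fun h => nat_le_order f n h⟩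

theorem exists_approx {L : Submodule k k⟦X⟧} {c : ℕ}
    (hc : ∀ n, c ≤ n → ∃ g ∈ L, g.order = n) {h : k⟦X⟧} (hh : (X : k⟦X⟧) ^ c ∣ h) (m : ℕ) :
    ∃ l ∈ L, (X : k⟦X⟧) ^ (c + m) ∣ h - l := by
  induction m with
  | zero => exact ⟨0, L.zero_mem, by simpa using hh⟩
  | succ m ih =>
    obtain ⟨l, hl, hdvd⟩ := ih
    obtain ⟨g, hg, hgo⟩ := hc (c + m) (by omega)
    obtain ⟨hg1, hg2⟩ := (order_eq_nat).1 hgo
    refine ⟨l + (coeff (c + m) (h - l) / coeff (c + m) g) • g, L.add_mem hl (L.smul_mem _ hg), ?_⟩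
    rw [X_pow_dvd_iff] at hdvd ⊢
    intro d hd
    rw [← sub_sub, map_sub, coeff_smul, smul_eq_mul]
    rcases eq_or_ne d (c + m) with rfl | hne
    · rw [div_mul_cancel₀ _ hg1, sub_self]
    · rw [hdvd d (by omega), hg2 d (by omega), mul_zero, sub_self]

theorem eq_of_forall_dvd {f g : k⟦X⟧} (h : ∀ n, (X : k⟦X⟧) ^ n ∣ f - g) : f = g := by
  ext n
  have := X_pow_dvd_iff.1 (h (n + 1)) n (Nat.lt_succ_self n)
  rwa [map_sub, sub_eq_zero] at this

/-- A closed subalgebra contains `p(a)` for `a` in it of positive order. -/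
theorem subst_mem {A : Subalgebra k k⟦X⟧}
    (hcl : ∀ f : k⟦X⟧, (∀ n : ℕ, ∃ g ∈ A, (n : ℕ∞) ≤ (f - g).order) → f ∈ A)
    {a : k⟦X⟧} (ha : a ∈ A) (ha0 : constantCoeff a = 0) (p : k⟦X⟧) :
    subst a p ∈ A := by
  have hs := HasSubst.of_constantCoeff_zero ha0
  refine hcl _ fun n => ⟨Polynomial.aeval a (trunc n p), ?_, (le_order_iff_dvd n _).2 ?_⟩
  · have e := Polynomial.aeval_algHom_apply A.val (⟨a, ha⟩ : A) (trunc n p)
    rw [show Polynomial.aeval a (trunc n p) = A.val (Polynomial.aeval (⟨a, ha⟩ : A) (trunc n p)) from e]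
    exact SetLike.coe_mem _
  · have heq : (subst a p : k⟦X⟧) = subst a (mk fun i => coeff (i + n) p) * a ^ n +
        Polynomial.aeval a (trunc n p) := by
      conv_lhs => rw [eq_X_pow_mul_shift_add_trunc n p, mul_comm]
      rw [subst_add hs, subst_mul hs, subst_pow hs, subst_X hs, subst_coe hs]
    rw [heq, add_sub_cancel_right]
    exact Dvd.dvd.mul_left (pow_dvd_pow_of_dvd (X_dvd_iff.2 ha0) n) _

/-- Division with remainder by a series `a` of order `d`, with remainders spanned by series of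
orders `c, …, c + d - 1`. -/
theorem exists_step {a : k⟦X⟧} {d : ℕ} (ha : a.order = d) (g : Fin d → k⟦X⟧) {c : ℕ}
    (hg : ∀ j : Fin d, (g j).order = (c + j : ℕ)) {h : k⟦X⟧} (hh : (X : k⟦X⟧) ^ c ∣ h) :
    ∃ (v : Fin d → k) (h' : k⟦X⟧), (X : k⟦X⟧) ^ c ∣ h' ∧ h = ∑ j, C (v j) * g j + a * h' := by
  have key : ∀ m, m ≤ d → ∃ v : Fin d → k, (X : k⟦X⟧) ^ (c + m) ∣ h - ∑ j, C (v j) * g j := by
    intro m
    induction m with
    | zero => exact fun _ => ⟨0, by simpa using hh⟩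
    | succ m ih =>
      intro hm
      obtain ⟨v, hv⟩ := ih (by omega)
      obtain ⟨hg1, hg2⟩ := (order_eq_nat).1 (hg ⟨m, hm⟩)
      set r := h - ∑ j, C (v j) * g j with hr
      set x : k := coeff (c + m) r / coeff (c + m) (g ⟨m, hm⟩) with hx
      let δ : Fin d → k := Pi.single (⟨m, hm⟩ : Fin d) x
      refine ⟨v + δ, ?_⟩
      have hsum : h - ∑ j, C ((v + δ) j) * g j = r - C x * g ⟨m, hm⟩ := by
        have he : ∑ j, C (δ j) * g j = C x * g ⟨m, hm⟩ := by
          simp only [δ]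
          rw [Finset.sum_eq_single (⟨m, hm⟩ : Fin d)]
          · rw [Pi.single_eq_same]
          · intro j _ hj; rw [Pi.single_eq_of_ne hj, map_zero, zero_mul]
          · simp
        simp only [Pi.add_apply, map_add, add_mul, Finset.sum_add_distrib]
        rw [he, ← sub_sub]
      rw [hsum, X_pow_dvd_iff]
      intro i hi
      rw [map_sub, coeff_C_mul]
      rw [X_pow_dvd_iff] at hv
      rcases eq_or_ne i (c + m) with rfl | hne
      · rw [hx, div_mul_cancel₀ _ hg1, sub_self]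
      · rw [hv i (by omega), hg2 i (by simp only; omega), mul_zero, sub_self]
  obtain ⟨v, q, hq⟩ := key d le_rfl
  obtain ⟨ha1, ha2⟩ := (order_eq_nat).1 ha
  obtain ⟨w, hw⟩ : (X : k⟦X⟧) ^ d ∣ a := X_pow_dvd_iff.2 ha2
  have hwu : IsUnit w := by
    rw [isUnit_iff_constantCoeff, isUnit_iff_ne_zero]
    intro h0
    apply ha1
    rw [hw, coeff_X_pow_mul', if_pos le_rfl, Nat.sub_self, coeff_zero_eq_constantCoeff_apply, h0]
  obtain ⟨w', hw'⟩ := hwu.exists_right_inv
  refine ⟨v, X ^ c * (w' * q), dvd_mul_right _ _, ?_⟩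
  rw [hw, ← sub_eq_iff_eq_add', hq, pow_add,
    show X ^ d * w * (X ^ c * (w' * q)) = X ^ c * X ^ d * (w * w' * q) by ring, hw', one_mul]

theorem exists_subst_repr {a : k⟦X⟧} {d : ℕ} (hd : 0 < d) (ha : a.order = d) (g : Fin d → k⟦X⟧)
    {c : ℕ} (hg : ∀ j : Fin d, (g j).order = (c + j : ℕ)) {h : k⟦X⟧} (hh : (X : k⟦X⟧) ^ c ∣ h) :
    ∃ p : Fin d → k⟦X⟧, h = ∑ j, subst a (p j) * g j := by
  classical
  choose v nxt hnxt heq using fun (x : {h : k⟦X⟧ // (X : k⟦X⟧) ^ c ∣ h}) => exists_step ha g hg x.2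
  let seq : ℕ → {h : k⟦X⟧ // (X : k⟦X⟧) ^ c ∣ h} :=
    fun m => Nat.rec ⟨h, hh⟩ (fun _ x => ⟨nxt x, hnxt x⟩) m
  obtain ⟨ha1, ha2⟩ := (order_eq_nat).1 ha
  have ha0 : constantCoeff a = 0 := by
    rw [← coeff_zero_eq_constantCoeff_apply]; exact ha2 0 hd
  have hs := HasSubst.of_constantCoeff_zero ha0
  let P : ℕ → k⟦X⟧ := fun m => ∑ j, subst a (mk fun i => v (seq (m + i)) j) * g j
  refine ⟨fun j => mk fun i => v (seq (0 + i)) j, eq_of_forall_dvd (f := h) (g := P 0) fun n => ?_⟩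
  have hP : ∀ m, P m = ∑ j, C (v (seq m) j) * g j + a * P (m + 1) := by
    intro m
    rw [Finset.mul_sum, ← Finset.sum_add_distrib]
    refine Finset.sum_congr rfl fun j _ => ?_
    have hsplit : (mk fun i => v (seq (m + i)) j) =
        X * (mk fun i => v (seq (m + 1 + i)) j) + C (v (seq m) j) := by
      ext i
      rcases i with _ | i
      · simp
      · rw [map_add, coeff_succ_X_mul, coeff_mk, coeff_mk, coeff_C, if_neg i.succ_ne_zero,
          add_zero, show m + (i + 1) = m + 1 + i by omega]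
    rw [hsplit, subst_add hs, subst_mul hs, subst_X hs, subst_C]
    change (a * subst a _ + C (v (seq m) j)) * g j = _
    ring
  have hdiff : ∀ m, h - P 0 = a ^ m * ((seq m).1 - P m) := by
    intro m
    induction m with
    | zero => simp [seq]
    | succ m ih =>
      rw [ih, hP m, heq (seq m)]
      change a ^ m * (_ + a * nxt (seq m) - _) = a ^ (m + 1) * (nxt (seq m) - _)
      ring
  rw [hdiff n]
  exact Dvd.dvd.mul_right (pow_dvd_pow_of_dvd (X_dvd_iff.2 ha0) n) _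

theorem not_finite_powerSeries : ¬ Module.Finite k k⟦X⟧ := by
  intro hfin
  have hli : LinearIndependent k (fun n : ℕ => (X : k⟦X⟧) ^ n) := by
    rw [linearIndependent_iff']
    intro s w hw i hi
    have := congrArg (coeff i) hw
    simp only [map_sum, coeff_smul, smul_eq_mul, coeff_X_pow, map_zero, mul_ite, mul_one, mul_zero] at this
    rwa [Finset.sum_ite_eq, if_pos hi] at this
  exact (Module.rank_lt_aleph0 k k⟦X⟧).not_ge (by simpa using hli.cardinal_lift_le_rank)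

theorem exists_posOrder {A : Subalgebra k k⟦X⟧} (hA : Module.Finite A k⟦X⟧) :
    ∃ a ∈ A, ∃ d, 0 < d ∧ a.order = (d : ℕ) := by
  by_contra hne
  push Not at hne
  have hbot : A = ⊥ := by
    refine eq_bot_iff.2 fun a ha => ?_
    rw [Algebra.mem_bot]
    refine ⟨constantCoeff a, ?_⟩
    by_contra h
    set b := a - algebraMap k k⟦X⟧ (constantCoeff a) with hb
    have hb0 : b ≠ 0 := fun h0 => h (sub_eq_zero.1 h0).symm
    have hbA : b ∈ A := A.sub_mem ha (A.algebraMap_mem _)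
    obtain ⟨d, hd⟩ := WithTop.ne_top_iff_exists.1 (show b.order ≠ ⊤ from
      fun h0 => hb0 (order_eq_top.1 h0))
    rcases Nat.eq_zero_or_pos d with rfl | hdp
    · have := ((order_eq_nat).1 hd.symm).1
      simp [hb, PowerSeries.algebraMap_apply] at this
    · exact hne b hbA d hdp hd.symm
  subst hbot
  haveI : Module.Finite k (⊥ : Subalgebra k k⟦X⟧) :=
    Module.Finite.equiv (Algebra.botEquivOfInjective (algebraMap k k⟦X⟧).injective).symm.toLinearEquiv
  haveI := hA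
  exact not_finite_powerSeries (Module.Finite.trans (⊥ : Subalgebra k k⟦X⟧) k⟦X⟧)

end Groth.Agent.ValueApprox
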