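import Groth.Agent.Lib.H84.ValueApprox

/-!
# The codimension of a subspace of `k[[t]]` is the number of gaps of its value set
-/

set_option autoImplicit false
open scoped PowerSeries
open PowerSeries

namespace Groth.Agent.ValueCodim

universe u
variable {k : Type u} [Field k]

/-- A subspace containing a power of the maximal ideal has as codimension the number of its gaps. -/
theorem finrank_quotient_eq_ncard {L : Submodule k k⟦X⟧} {N : ℕ}
    (hN : ∀ h : k⟦X⟧, (X : k⟦X⟧) ^ N ∣ h → h ∈ L) :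
    {n : ℕ | ∃ f ∈ L, f.order = n}ᶜ.Finite ∧
      Module.finrank k (k⟦X⟧ ⧸ L) = {n : ℕ | ∃ f ∈ L, f.order = n}ᶜ.ncard := by
  classical
  set Δ := {n : ℕ | ∃ f ∈ L, f.order = n} with hΔ
  have hgap : ∀ n, n ∉ Δ → n < N := fun n hn => by
    by_contra h
    exact hn ⟨_, hN _ (pow_dvd_pow _ (not_lt.1 h)), order_X_pow n⟩
  have hfin : Δᶜ.Finite := (Set.finite_Iio N).subset fun n hn => hgap n hn
  refine ⟨hfin, ?_⟩
  haveI := hfin.fintype
  let φ : (↥(Δᶜ) → k) →ₗ[k] k⟦X⟧ :=
    Fintype.linearCombination k fun n : ↥(Δᶜ) => (X : k⟦X⟧) ^ (n : ℕ)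
  let ψ := L.mkQ.comp φ
  have hφ : ∀ v (m : ℕ), coeff m (φ v) = ∑ n : ↥(Δᶜ), if m = (n : ℕ) then v n else 0 := by
    intro v m
    simp [φ, Fintype.linearCombination_apply, coeff_X_pow]
  have hinj : Function.Injective ψ := by
    rw [← LinearMap.ker_eq_bot, LinearMap.ker_eq_bot']
    intro v hv
    have hv' : φ v ∈ L := (Submodule.Quotient.mk_eq_zero L).1 hv
    funext n
    by_contra hne
    have hne0 : φ v ≠ 0 := fun h0 => hne (by
      have := hφ v n
      rw [h0, map_zero, Finset.sum_eq_single n (fun b _ hb => if_neg fun h => hb (Subtype.ext h.symm))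
        (by simp), if_pos rfl] at this
      simpa using this.symm)
    obtain ⟨d, hd⟩ := WithTop.ne_top_iff_exists.1
      (show (φ v).order ≠ ⊤ from fun h => hne0 (order_eq_top.1 h))
    have hdc := ((order_eq_nat).1 hd.symm).1
    rw [hφ] at hdc
    obtain ⟨b, -, hb⟩ := Finset.exists_ne_zero_of_sum_ne_zero hdc
    have hbd : d = (b : ℕ) := by by_contra h; simp [h] at hb
    exact b.2 (hbd ▸ ⟨φ v, hv', hd.symm⟩)
  have hsurj : Function.Surjective ψ := by
    intro x
    obtain ⟨f, rfl⟩ := Submodule.mkQ_surjective _ x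
    have hord : ∀ n, 0 ≤ n → ∃ g ∈ L ⊔ LinearMap.range φ, g.order = (n : ℕ) := by
      intro n _
      by_cases hn : n ∈ Δ
      · obtain ⟨g, hg, hgo⟩ := hn
        exact ⟨g, Submodule.mem_sup_left hg, hgo⟩
      · exact ⟨_, Submodule.mem_sup_right ⟨Pi.single ⟨n, hn⟩ 1, by
          simp [φ, Fintype.linearCombination_apply_single]⟩, order_X_pow n⟩
    obtain ⟨l, hl, hdvd⟩ := Groth.Agent.ValueApprox.exists_approx hord (h := f) (by simp) N
    have hf : f ∈ L ⊔ LinearMap.range φ := by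
      have h1 : f - l ∈ L := hN _ (by simpa using hdvd)
      have := Submodule.add_mem _ (Submodule.mem_sup_left (T := LinearMap.range φ) h1) hl
      rwa [sub_add_cancel] at this
    obtain ⟨y, hy, _, ⟨v, rfl⟩, rfl⟩ := Submodule.mem_sup.1 hf
    refine ⟨v, ?_⟩
    simp only [ψ, LinearMap.comp_apply, map_add]
    rw [show L.mkQ y = 0 from (Submodule.Quotient.mk_eq_zero _).2 hy, zero_add]
  rw [← (LinearEquiv.ofBijective ψ ⟨hinj, hsurj⟩).finrank_eq, Module.finrank_fintype_fun_eq_card,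
    Set.ncard_eq_toFinset_card', Set.toFinset_card]

end Groth.Agent.ValueCodim
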